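import Mathlib
import Cfsg.Prelude.Def_LocalStructure
import Cfsg.Agent.Lib.CharP.Basic
import Cfsg.Agent.Lib.Coprime.Basic

/-!
Subgroups containing a large subgroup and a Sylow subgroup; the maximal member over `M ∈ 𝔐`.
-/

set_option autoImplicit false

namespace Cfsg.Agent.Lib.LargeQ55

open Subgroup Cfsg

variable {G : Type*} [Group G] [Finite G] {p : ℕ} [hp : Fact p.Prime]

/-- A `p`-group acting on a nontrivial `p`-group fixes a nontrivial element. -/
theorem exists_fixed_ne_one {Q R : Subgroup G} (hQ : IsPGroup p Q) (hR : IsPGroup p R)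
    (hn : Q ≤ normalizer (R : Set G)) (hR1 : R ≠ ⊥) :
    ∃ z ∈ R, z ≠ 1 ∧ z ∈ centralizer (Q : Set G) := by
  have hmem : ∀ (q : Q) (z : R), (q : G) * z * (q : G)⁻¹ ∈ R := fun q z =>
    Coprime.conj_mem_of_le_normalizer hn q.2 z.2
  let act : MulAction Q R :=
    { smul := fun q z => ⟨(q : G) * z * (q : G)⁻¹, hmem q z⟩
      one_smul := fun z => Subtype.ext (show (1 : G) * z * (1 : G)⁻¹ = z by simp)
      mul_smul := fun a b z => Subtype.ext
        (show (a * b : G) * z * (a * b : G)⁻¹ = a * (b * z * (b : G)⁻¹) * (a : G)⁻¹ by group) }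
  obtain ⟨z, hz, hz1⟩ := hQ.exists_fixed_point_of_prime_dvd_card_of_fixed_point R
    (hR.card_eq_or_dvd.resolve_left fun h => hR1 (Subgroup.card_eq_one.1 h))
    (a := (1 : R)) (fun s => Subtype.ext (show (s : G) * (1 : G) * (s : G)⁻¹ = 1 by simp))
  refine ⟨z, z.2, fun h => hz1.symm (Subtype.ext h), mem_centralizer_iff.2 fun q hq => ?_⟩
  exact mul_inv_eq_iff_eq_mul.1 (congrArg Subtype.val (hz ⟨q, hq⟩))

/-- A subgroup containing a large `p`-subgroup and a Sylow `p`-subgroup, with nontrivial `O_p`,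
contains the centralizer of its `O_p`. -/
theorem centralizer_pCoreOf_le {Q : Subgroup G} (hQp : IsPGroup p Q) (hQ : IsLarge Q)
    (S : Sylow p G) (hQS : Q ≤ (S : Subgroup G)) {N : Subgroup G} (hSN : (S : Subgroup G) ≤ N)
    (hne : pCoreOf p N ≠ ⊥) :
    centralizer (pCoreOf p N : Set G) ≤ pCoreOf p N := by
  set R := pCoreOf p N with hR
  have hRp : IsPGroup p R := CharP.pCoreOf_isPGroup N
  have hRN : R ≤ N := CharP.pCoreOf_le N
  have hNR : N ≤ normalizer (R : Set G) := CharP.le_normalizer_pCoreOf N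
  have hQN : Q ≤ N := hQS.trans hSN
  set W := centralizer (R : Set G) with hW
  have hNW : N ≤ normalizer (W : Set G) := CharP.le_normalizer_centralizer hNR
  -- a nontrivial subgroup of `Z(R) ∩ C(Q)`
  set ZR := R ⊓ W with hZR
  have hZR1 : ZR ≠ ⊥ := by
    obtain ⟨z, hz, hz1, hzc⟩ := exists_fixed_ne_one hRp hRp le_normalizer hne
    exact fun h => hz1 (mem_bot.1 (h ▸ ⟨hz, hzc⟩))
  obtain ⟨z, hz, hz1, hzQ⟩ := exists_fixed_ne_one hQp (hRp.to_le inf_le_left)
    (hQN.trans (Coprime.le_normalizer_inf_centralizer hNR hNR)) hZR1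
  have hUN := hQ.2 (zpowers z) (zpowers_le.2 hzQ) (by rwa [Ne, zpowers_eq_bot])
  have hcz : centralizer ({z} : Set G) ≤ normalizer (Q : Set G) := by
    refine le_trans ?_ hUN
    intro g hg
    rw [mem_centralizer_singleton_iff] at hg
    rw [mem_normalizer_iff]
    intro y
    refine ⟨?_, ?_⟩
    · rintro ⟨n, rfl⟩
      exact ⟨n, by show z ^ n = g * z ^ n * g⁻¹; rw [(Commute.zpow_right hg n).eq, mul_inv_cancel_right]⟩
    · rintro ⟨n, hn⟩
      refine ⟨n, ?_⟩
      show z ^ n = y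
      have h1 : g * z ^ n = g * y := by
        rw [(Commute.zpow_right hg n).eq, show z ^ n = g * y * g⁻¹ from hn]; group
      exact mul_left_cancel h1
  have hWQ : W ≤ normalizer (Q : Set G) := fun w hw => hcz (mem_centralizer_singleton_iff.2
    ((mem_centralizer_iff.1 hw z hz.1).symm))
  have hRQ : R ≤ normalizer (Q : Set G) := fun r hr => hcz (mem_centralizer_singleton_iff.2
    (mem_centralizer_iff.1 hz.2 r hr))
  -- `W ∩ Q` lies in `O_p(N)`
  have hDR : W ⊓ Q ≤ R := by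
    have h1 : W ⊓ Q ≤ pCoreOf p (N ⊓ W) := by
      refine CharP.le_pCoreOf (le_inf (inf_le_right.trans hQN) inf_le_left) (hQp.to_le inf_le_right) ?_
      intro g hg
      exact inf_normalizer_le_normalizer_inf ⟨le_normalizer hg.2, hWQ hg.2⟩
    refine h1.trans (CharP.le_pCoreOf ((CharP.pCoreOf_le _).trans inf_le_left)
      (CharP.pCoreOf_isPGroup _) ?_)
    have h2 : N ≤ normalizer ((N ⊓ W : Subgroup G) : Set G) := fun g hg =>
      inf_normalizer_le_normalizer_inf ⟨le_normalizer hg, hNW hg⟩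
    haveI := PSolvable.pCore_characteristic (G := ↥(N ⊓ W)) (p := p)
    refine h2.trans ?_
    intro g hg
    have key : ∀ x ∈ normalizer ((N ⊓ W : Subgroup G) : Set G), ∀ y ∈ pCoreOf p (N ⊓ W),
        x * y * x⁻¹ ∈ pCoreOf p (N ⊓ W) := by
      rintro x hx _ ⟨y, hy, rfl⟩
      exact ⟨(Subgroup.normalizerMonoidHom (N ⊓ W) ⟨x, hx⟩) y,
        (Subgroup.characteristic_iff_map_eq.1 inferInstance
          (Subgroup.normalizerMonoidHom (N ⊓ W) ⟨x, hx⟩)).le ⟨y, hy, rfl⟩, rfl⟩
    rw [mem_normalizer_iff]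
    exact fun y => ⟨key g hg y, fun h => by simpa [mul_assoc] using key g⁻¹ (inv_mem hg) _ h⟩
  have hWp : IsPGroup p W := by
    refine CharP.isPGroup_of_forall fun x hx hxc => ?_
    refine CharP.eq_one_of_mem_of_coprime hQp (hQ.1 (mem_centralizer_iff.2 fun q hq => ?_)) hxc
    refine CharP.commute_of_commutator_mem hRp hxc hx (hDR ⟨?_, ?_⟩)
    · exact W.mul_mem (Coprime.conj_mem_of_le_normalizer hNW (hQN hq) hx) (W.inv_mem hx)
    · have h1 := (mem_normalizer_iff.1 (hWQ hx) q⁻¹).1 (Q.inv_mem hq)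
      have := Q.mul_mem hq h1
      simpa [mul_assoc] using this
  have hWS : W ≤ (S : Subgroup G) := by
    have := S.3 (hWp.to_sup_of_normal_left' S.2 (hSN.trans hNW)) le_sup_right
    exact le_sup_left.trans this.le
  exact CharP.le_pCoreOf (hWS.trans hSN) hWp hNW

/-- Every member of `𝓛_G` lies in a maximal one. -/
theorem exists_max {L : Subgroup G} (hL : L ∈ charPSubgroups p G) :
    ∃ X ∈ maxCharPSubgroups p G, L ≤ X := by
  obtain ⟨X, hX, hXmax⟩ := (Set.toFinite (charPSubgroups p G)).exists_le_maximal hL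
  exact ⟨X, ⟨hXmax.1, fun Y hY hXY => le_antisymm (hXmax.2 hY hXY) hXY⟩, hX⟩

/-- For `M ∈ 𝔐(S)` and a large `Q ≤ S`, normalizers of nontrivial normal `p`-subgroups of `M`
lie in `M C(Y_M)`. -/
theorem normalizer_le_of_frakM {Q : Subgroup G} (hQp : IsPGroup p Q) (hQ : IsLarge Q)
    (S : Sylow p G) (hQS : Q ≤ (S : Subgroup G)) {M : Subgroup G} (hSM : (S : Subgroup G) ≤ M)
    (hM : IsInFrakM p M) {I : Subgroup G} (hI1 : I ≠ ⊥) (hIp : IsPGroup p I)
    (hIn : M ≤ normalizer (I : Set G)) :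
    normalizer (I : Set G) ≤ M ⊔ centralizer (largestPReducedOf p M : Set G) := by
  have hne : pCoreOf p (normalizer (I : Set G)) ≠ ⊥ := fun h =>
    hI1 (le_bot_iff.1 (h ▸ CharP.le_pCoreOf le_normalizer hIp le_rfl))
  have hmem : normalizer (I : Set G) ∈ charPSubgroups p G := by
    refine ⟨?_, centralizer_pCoreOf_le hQp hQ S hQS (hSM.trans hIn) hne⟩
    intro h
    exact hne (by rw [pCoreOf, h, Subgroup.map_bot])
  obtain ⟨X, hX, hXle⟩ := exists_max hmem
  rw [← hM.2.2.1 X hX (hIn.trans hXle)]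
  exact hXle

end Cfsg.Agent.Lib.LargeQ55
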